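import Groth.Agent.DetTwist.Lattice
import Groth.Agent.KFlat.ClosedImm
import Groth.Agent.LocFree.SemiLocal
import Groth.Agent.CompInt.Conormal
import Groth.Agent.LefRel.Bound
import Groth.Agent.CurveRR.Curve
import Groth.Agent.S8914

/-!
# An integral effective Cartier divisor and its ideal
-/

set_option autoImplicit false
set_option linter.unusedSectionVars false
set_option linter.style.haveILetI false
set_option backward.isDefEq.respectTransparency false
set_option backward.isDefEq.respectTransparency.types false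

universe u

open CategoryTheory CategoryTheory.Limits AlgebraicGeometry TopologicalSpace Opposite
open Groth.Agent.RefStalk (msp msp_germ msp_smul toGen stalkMap_msp)
open Groth.Agent.RefDiv (sp sp_ne_zero)
open IsLocalRing

noncomputable section

namespace Groth.Agent.DetTwist

section Push

variable {Z X : Scheme.{u}} (i : Z ⟶ X) [IsClosedImmersion i] (y : Z)

/-- The stalk of a direct image at the image of a point with field local ring is killed by the maximal ideal. -/
theorem push_kill (hy : IsField (Z.presheaf.stalk y)) (G : Z.Modules) {π : X.presheaf.stalk (i y)}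
    (hπ : π ∈ maximalIdeal (X.presheaf.stalk (i y)))
    (p : ((Scheme.Modules.pushforward i).obj G).presheaf.stalk (i y)) : π • p = 0 := by
  refine (KFlat.pushStalk_bijective i y G).1 ?_
  refine (KFlat.pushStalk_smul i y G π p).trans ?_
  have h0 : (i.stalkMap y).hom π = 0 := by
    have : (i.stalkMap y).hom π ∈ maximalIdeal (Z.presheaf.stalk y) := fun hu =>
      hπ ((isUnit_map_iff (i.stalkMap y).hom π).1 hu)
    rwa [(IsLocalRing.isField_iff_maximalIdeal_eq).1 hy, Ideal.mem_bot] at this
  rw [h0]
  exact (zero_smul (Z.presheaf.stalk y) (KFlat.pushStalk i y G p :)).trans (map_zero _).symm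

theorem push_gens {s : ℕ} (G : Z.Modules) (b : Module.Basis (Fin s) (Z.presheaf.stalk y) (G.presheaf.stalk y)) :
    ∃ t : Fin s → ((Scheme.Modules.pushforward i).obj G).presheaf.stalk (i y),
      ∀ p, ∃ c : Fin s → X.presheaf.stalk (i y), p = ∑ j, c j • t j := by
  choose t ht using fun j => (KFlat.pushStalk_bijective i y G).2 (b j)
  refine ⟨t, fun p => ?_⟩
  choose c hc using fun j => i.stalkMap_surjective y (b.repr (KFlat.pushStalk i y G p) j)
  refine ⟨c, (KFlat.pushStalk_bijective i y G).1 ?_⟩
  refine (b.sum_repr (KFlat.pushStalk i y G p)).symm.trans (Eq.trans ?_ (map_sum (KFlat.pushStalk i y G) _ _).symm)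
  refine Finset.sum_congr rfl fun j _ => ?_
  exact ((congrArg₂ (fun (c' : Z.presheaf.stalk y) (m : G.presheaf.stalk y) => c' • m) (hc j) (ht j)).symm.trans
    (KFlat.pushStalk_smul i y G (c j) (t j)).symm)

end Push

variable {X : Scheme.{u}}

/-- Right exactness on stalks. -/
theorem range_of_exact {A B C : X.Modules} {a : A ⟶ B} {b : B ⟶ C} {w : a ≫ b = 0}
    (hex : (ShortComplex.mk a b w).Exact) (hb : Epi b) (x : X) :
    Function.Surjective (RefHull.stalkMapₗ b x) ∧
      LinearMap.ker (RefHull.stalkMapₗ b x) = LinearMap.range (RefHull.stalkMapₗ a x) := by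
  haveI := hb
  have h := hex.map (DerSch.stalkFunctor X x)
  rw [ShortComplex.moduleCat_exact_iff] at h
  refine ⟨(ModuleCat.epi_iff_surjective ((DerSch.stalkFunctor X x).map b)).1 inferInstance, le_antisymm ?_ ?_⟩
  · intro m hm
    obtain ⟨n, hn⟩ := h m hm
    exact ⟨n, hn⟩
  · rintro _ ⟨n, rfl⟩
    exact ConcreteCategory.congr_hom
      (show (DerSch.stalkFunctor X x).map a ≫ (DerSch.stalkFunctor X x).map b = 0 by
        rw [← Functor.map_comp, w, Functor.map_zero]) n

/-- The local equation of an effective Cartier divisor. -/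
theorem exists_equation [IsIntegral X] {D : X.IdealSheafData} (hD : BlowUp.IsEffCartierIdeal D) (x : X) :
    ∃ (f : X.presheaf.stalk x) (e : X.presheaf.stalk x ≃ₗ[X.presheaf.stalk x] (ClSub.idealMod D).presheaf.stalk x),
      f ≠ 0 ∧ CompInt.istalk D x (e 1) = f ∧ (x ∈ D.support ↔ ¬ IsUnit f) := by
  obtain ⟨U, hxU, g, hg, hU⟩ := hD x
  obtain ⟨e, he⟩ := LefRel.exists_stalk_generator D ((Groth.Agent.S8914.result D).2 hD) U x hxU g hU
  haveI : Nonempty ↥(U.1) := ⟨⟨x, hxU⟩⟩
  refine ⟨_, e, fun h0 => ?_, he, ?_⟩
  · exact nonZeroDivisors.ne_zero hg (germ_injective_of_isIntegral (X := X) (U := U.1) x hxU (h0.trans (map_zero _).symm))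
  · rw [← X.mem_basicOpen g x hxU]
    have h := Set.ext_iff.1 (D.coe_support_inter U) x
    rw [hU, Scheme.zeroLocus_span, Scheme.zeroLocus_singleton] at h
    simp only [Set.mem_inter_iff, SetLike.mem_coe, hxU, and_true, Set.mem_compl_iff] at h
    exact h

theorem not_mem_of_generic [IsIntegral X] {D : X.IdealSheafData} (hD : BlowUp.IsEffCartierIdeal D) :
    genericPoint X ∉ D.support := fun h => by
  obtain ⟨f, -, hf, -, hs⟩ := exists_equation hD (genericPoint X)
  exact hs.1 h ((inferInstance : GroupWithZero X.functionField) |> fun _ => IsUnit.mk0 (G₀ := X.functionField) f hf)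

variable [IsIntegral X] [IsLocallyNoetherian X]

/-- The point of codimension one of an integral effective Cartier divisor, if there is one. -/
theorem eq_genericPoint_of_coheight {D : X.IdealSheafData} (hD : BlowUp.IsEffCartierIdeal D) [IsIntegral D.subscheme]
    {x : X} (hx : Order.coheight x = 1) (hxD : x ∈ D.support) : x = D.subschemeι (genericPoint D.subscheme) := by
  obtain ⟨y, rfl⟩ : x ∈ Set.range D.subschemeι := by rw [Scheme.IdealSheafData.range_subschemeι]; exact hxD
  have hs : D.subschemeι (genericPoint D.subscheme) ⤳ D.subschemeι y :=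
    ((genericPoint_spec D.subscheme).specializes trivial).map D.subschemeι.continuous
  rcases DivOrd.eq_or_eq_genericPoint hx hs with h | h
  · exact h.symm
  · exfalso
    refine not_mem_of_generic hD ?_
    rw [← h, ← SetLike.mem_coe, ← Scheme.IdealSheafData.range_subschemeι]
    exact ⟨_, rfl⟩

/-- The divisor of the ideal of an integral effective Cartier divisor. -/
theorem hasDiv_idealMod (hn : Pi1.IsNormalScheme X) {D : X.IdealSheafData} (hD : BlowUp.IsEffCartierIdeal D)
    [IsIntegral D.subscheme] [DecidableEq X] :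
    RefDiv.HasDiv (ClSub.idealMod D) (fun x => if x = D.subschemeι (genericPoint D.subscheme) then -1 else 0) := by
  let ι := RefHull.stalkMapₗ (ClSub.idealModι D)
  have hlat := RefDiv.lat_of_isInvertible ((Groth.Agent.S8914.result D).2 hD)
  obtain ⟨f₀, e₀, hf₀, he₀, hs₀⟩ := exists_equation hD (genericPoint X)
  have hu : IsUnit f₀ := not_not.1 fun h => not_mem_of_generic hD (hs₀.2 h)
  let s : RefDiv.St (ClSub.idealMod D) := e₀ ↑hu.unit⁻¹
  have hs : CompInt.istalk D _ s = 1 := by
    show CompInt.istalk D _ (e₀ ↑hu.unit⁻¹) = 1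
    rw [show e₀ ↑hu.unit⁻¹ = (↑hu.unit⁻¹ : X.presheaf.stalk (genericPoint X)) • e₀ 1 by
      rw [← map_smul, smul_eq_mul, mul_one], map_smul, he₀, smul_eq_mul]
    exact hu.val_inv_mul
  refine ⟨s, fun h => one_ne_zero (α := X.functionField) (hs.symm.trans ((congrArg (CompInt.istalk D (genericPoint X)) h).trans (map_zero (CompInt.istalk D (genericPoint X))))), fun x hx => ?_⟩
  obtain ⟨f, e, hf, he, hsupp⟩ := exists_equation hD x
  haveI := CDivNormal.isDVR hn x hx
  have hsp : Submodule.span (X.presheaf.stalk x) {e 1} = ⊤ := RefDiv.span_eq_top_of_surjective fun v =>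
    ⟨e.symm v, by beta_reduce; rw [← map_smul, smul_eq_mul, mul_one, e.apply_symm_apply]⟩
  have hms : (sp x f : X.functionField)⁻¹ • msp _ (toGen x) (e 1) = s := by
    refine CompInt.istalk_injective D _ ?_
    rw [hs, map_smul, smul_eq_mul]
    have : CompInt.istalk D (genericPoint X) (msp _ (toGen x) (e 1)) = sp x f := by
      refine (CompInt.sE (genericPoint X)).injective ?_
      rw [CompInt.istalk, LinearMap.comp_apply, LinearEquiv.coe_coe, LinearEquiv.apply_symm_apply, stalkMap_msp,
        show RefHull.stalkMapₗ (ClSub.idealModι D) x (e 1) = CompInt.sE x f from by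
          rw [← he, CompInt.istalk, LinearMap.comp_apply, LinearEquiv.coe_coe, LinearEquiv.apply_symm_apply]]
      obtain ⟨U, hU, r, rfl⟩ := TopCat.Presheaf.exists_germ_eq X.presheaf f
      rw [CompInt.sE_germ]
      refine (msp_germ _ (toGen x) hU _).trans ?_
      rw [show sp x (X.presheaf.germ U x hU r) = X.presheaf.germ U (genericPoint X) ((toGen x).mem_open U.2 hU) r
        from TopCat.Presheaf.germ_stalkSpecializes_apply X.presheaf hU (toGen x) r, CompInt.sE_germ]
    rw [this]
    exact inv_mul_cancel₀ (sp_ne_zero hf)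
  rw [RefDiv.dv, hlat.secOrdAt_mk hx hsp (inv_ne_zero (sp_ne_zero hf)) hms, RefDiv.ord_inv (sp_ne_zero hf)]
  beta_reduce
  split
  · next hxe =>
    subst hxe
    have hmax : ∀ π ∈ maximalIdeal (X.presheaf.stalk (D.subschemeι (genericPoint D.subscheme))), f ∣ π := by
      intro π hπ
      obtain ⟨v, hv⟩ := WeakAssLib.stalk_exact _ (CurveRR.ideal_shortExact D) _ (CompInt.sE _ π) (by
        show RefHull.stalkMapₗ (ClSub.toSubscheme D) _ (CompInt.sE _ π) = 0
        rw [show CompInt.sE _ π = π • CompInt.sE _ 1 by rw [← map_smul, smul_eq_mul, mul_one], map_smul]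
        exact push_kill D.subschemeι (genericPoint D.subscheme)
          (Field.toIsField D.subscheme.functionField) (Coh.structureModule D.subscheme) hπ _)
      refine ⟨e.symm v, ?_⟩
      have h1 : CompInt.istalk D _ v = π := (CompInt.sE _).symm_apply_eq.2 hv
      rw [← h1, ← he, show v = e.symm v • e 1 by rw [← map_smul, smul_eq_mul, mul_one, e.apply_symm_apply],
        map_smul, smul_eq_mul, mul_comm, ← map_smul e, smul_eq_mul, mul_one, e.symm_apply_apply]
    have hnu : ¬ IsUnit f := hsupp.1 (by
      rw [← SetLike.mem_coe, ← Scheme.IdealSheafData.range_subschemeι]; exact ⟨_, rfl⟩)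
    have hirr : Irreducible f := by
      refine (IsDiscreteValuationRing.irreducible_iff_uniformizer f).2 (le_antisymm (fun π hπ => ?_) ?_)
      · exact Ideal.mem_span_singleton.2 (hmax π hπ)
      · exact (Ideal.span_singleton_le_iff_mem _).2 hnu
    haveI : Ring.KrullDimLE 1 (X.presheaf.stalk (D.subschemeι (genericPoint D.subscheme))) :=
      krullDimLE_of_coheight_le hx.le
    rw [(Scheme.ord_eq_iff hx (sp_ne_zero hf)).2 (Ring.ordFrac_irreducible hirr)]
  · next hxe =>
    have hxD : x ∉ D.support := fun h => hxe (eq_genericPoint_of_coheight hD hx h)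
    rw [RefDiv.ord_sp_isUnit hx (not_not.1 fun h => hxD (hsupp.2 h)), neg_zero]

end Groth.Agent.DetTwist
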