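import Groth.Agent.DetTwist.Wedge

/-!
# Lattices of coherent modules at codimension one points and the length of an elementary modification
-/

set_option autoImplicit false
set_option linter.unusedSectionVars false
set_option linter.style.haveILetI false
set_option backward.isDefEq.respectTransparency false
set_option backward.isDefEq.respectTransparency.types false

universe u

open CategoryTheory CategoryTheory.Limits AlgebraicGeometry TopologicalSpace Opposite
open Groth.Agent.RefStalk (msp msp_germ msp_smul toGen stalkMap_msp)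
open Groth.Agent.RefDiv (sp sp_ne_zero)
open Groth.Agent.RefK0 (Gn)
open IsLocalRing

noncomputable section

namespace Groth.Agent.DetTwist

variable {X : Scheme.{u}} [IsIntegral X] [IsLocallyNoetherian X]

theorem msp_self (M : X.Modules) (m : M.presheaf.stalk (genericPoint X)) : msp M (toGen (genericPoint X)) m = m := by
  show (M.presheaf.stalkSpecializes _).hom m = m
  rw [TopCat.Presheaf.stalkSpecializes_refl]
  rfl

/-- A module killed by the maximal ideal and generated by `n` elements has length at most `n`. -/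
theorem length_le_of_gen {R : Type u} [CommRing R] [IsLocalRing R] {Q : Type u} [AddCommGroup Q] [Module R Q]
    {n : ℕ} (t : Fin n → Q) (ht : Submodule.span R (Set.range t) = ⊤)
    (hk : ∀ a ∈ maximalIdeal R, ∀ q : Q, a • q = 0) : Module.length R Q ≤ n := by
  let f : (Fin n → R ⧸ maximalIdeal R) →ₗ[R] Q := ∑ i, ((maximalIdeal R).liftQ (LinearMap.toSpanSingleton R Q (t i))
    (fun a ha => hk a ha (t i))).comp (LinearMap.proj i)
  have hs : Function.Surjective f := by
    rw [← LinearMap.range_eq_top, eq_top_iff, ← ht, Submodule.span_le]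
    rintro _ ⟨i, rfl⟩
    refine ⟨Pi.single i (Submodule.Quotient.mk 1), ?_⟩
    simp only [f, LinearMap.coe_sum, Finset.sum_apply, LinearMap.comp_apply, LinearMap.proj_apply]
    rw [Finset.sum_eq_single i (fun j _ hj => by rw [Pi.single_eq_of_ne hj, map_zero]) (by simp), Pi.single_eq_same]
    exact one_smul R (t i)
  refine (Module.length_le_of_surjective f hs).trans ?_
  haveI : IsSimpleModule R (R ⧸ maximalIdeal R) := isSimpleModule_iff_isCoatom.2
    ((Ideal.isMaximal_def).1 (maximalIdeal.isMaximal R))
  rw [Module.length_pi_of_fintype, Finset.sum_congr rfl fun i _ => Module.length_eq_one R (R ⧸ maximalIdeal R)]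
  simp

variable {F : X.Modules} {r : ℕ}

/-- The torsion-free quotient of a stalk. -/
def latKer (F : X.Modules) (x : X) : Submodule (X.presheaf.stalk x) (F.presheaf.stalk x) where
  carrier := {m | msp F (toGen x) m = 0}
  zero_mem' := map_zero _
  add_mem' := fun {a b} ha hb => by
    show msp F (toGen x) (a + b) = 0
    rw [map_add, show msp F (toGen x) a = 0 from ha, show msp F (toGen x) b = 0 from hb, add_zero]
  smul_mem' := fun c m hm => by
    show msp F (toGen x) (c • m) = 0
    rw [msp_smul, show msp F (toGen x) m = 0 from hm, smul_zero]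

/-- The map of the lattice to the generic stalk. -/
def latMap (F : X.Modules) (x : X) : (F.presheaf.stalk x ⧸ latKer F x) →+ Gn F :=
  QuotientAddGroup.lift (latKer F x).toAddSubgroup (msp F (toGen x)) fun _ h => h

theorem latMap_mk (x : X) (m : F.presheaf.stalk x) :
    latMap F x (Submodule.Quotient.mk m) = msp F (toGen x) m := rfl

theorem latMap_injective (x : X) : Function.Injective (latMap F x) := by
  rw [injective_iff_map_eq_zero]
  intro q hq
  obtain ⟨m, rfl⟩ := Submodule.Quotient.mk_surjective _ q
  exact (Submodule.Quotient.mk_eq_zero _).2 hq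

theorem latMap_smul (x : X) (a : X.presheaf.stalk x) (q : F.presheaf.stalk x ⧸ latKer F x) :
    latMap F x (a • q) = (sp x a : X.functionField) • latMap F x q := by
  obtain ⟨m, rfl⟩ := Submodule.Quotient.mk_surjective _ q
  exact msp_smul F (toGen x) a m

theorem isTorsionFree_lat (x : X) :
    Module.IsTorsionFree (X.presheaf.stalk x) (F.presheaf.stalk x ⧸ latKer F x) := by
  refine ⟨fun c hc q q' h => latMap_injective x ?_⟩
  have h' := congrArg (latMap F x) h
  simp only [latMap_smul] at h'
  exact smul_right_injective (Gn F) (sp_ne_zero hc.ne_zero) h'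

variable (hF : Coh.IsCoh F) (hn : Pi1.IsNormalScheme X) {x : X} (hx : Order.coheight x = 1)
include hF hn hx

/-- A generic basis of the lattice with the index of any frame. -/
theorem exists_latBasis_length (v : Fin r → F.presheaf.stalk x) (w : Module.Basis (Fin r) X.functionField (Gn F))
    (hv : ∀ i, msp F (toGen x) (v i) = w i) :
    ∃ g : Module.Basis (Fin r) X.functionField (Gn F), IsLatBasis F x g ∧
      ((Module.length (X.presheaf.stalk x) ((F.presheaf.stalk x ⧸ latKer F x) ⧸
        Submodule.span (X.presheaf.stalk x) (Set.range fun i => (Submodule.Quotient.mk (v i) :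
          F.presheaf.stalk x ⧸ latKer F x)))).toNat : ℤ) = Scheme.ord (g.det w) x := by
  haveI := isTorsionFree_lat (F := F) x
  haveI := RegDual.finite_stalk hF x
  obtain ⟨g, hg1, hg2, hg3⟩ := RefK0.length_eq_ord hn hx (latMap F x) (latMap_injective x) (latMap_smul x)
    (fun i => Submodule.Quotient.mk (v i)) w hv
  refine ⟨g, ⟨fun i => ?_, fun m i => hg2 (Submodule.Quotient.mk m) i⟩, hg3⟩
  obtain ⟨q, hq⟩ := hg1 i
  obtain ⟨m, rfl⟩ := Submodule.Quotient.mk_surjective _ q
  exact ⟨m, hq⟩

theorem exists_latBasis (hrk : Module.finrank (X.presheaf.stalk (genericPoint X))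
      (F.presheaf.stalk (genericPoint X)) = r) :
    ∃ g : Module.Basis (Fin r) X.functionField (Gn F), IsLatBasis F x g := by
  haveI : Module.Finite X.functionField (Gn F) := RegDual.finite_stalk hF _
  let b := Module.finBasisOfFinrankEq X.functionField (Gn F) hrk
  choose d c hd hdc using fun i => RefStalk.exists_mem_smul hF.1 (toGen x) (b i)
  have hd0 : ∀ i, sp x (d i) ≠ 0 := fun i => sp_ne_zero fun e => hd i (by rw [e]; exact Ideal.zero_mem _)
  obtain ⟨g, hg, -⟩ := exists_latBasis_length hF hn hx c (b.isUnitSMul fun i => (hd0 i).isUnit) fun i => by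
    rw [Module.Basis.isUnitSMul_apply, ← hdc i, msp_self]
  exact ⟨g, hg⟩

omit hF in
/-- The change of determinant under a modification killed by the maximal ideal. -/
theorem exists_step {F' : X.Modules} (hF' : Coh.IsCoh F') (a : F ⟶ F') (θ : Gn F ≃ₗ[X.functionField] Gn F')
    (hθ : ∀ v, θ v = RefHull.stalkMapₗ a (genericPoint X) v) (g : Module.Basis (Fin r) X.functionField (Gn F))
    (hg : IsLatBasis F x g) {n : ℕ} (t : Fin n → F'.presheaf.stalk x)
    (hgen : ∀ m', ∃ c : Fin n → X.presheaf.stalk x,
      m' - ∑ i, c i • t i ∈ LinearMap.range (RefHull.stalkMapₗ a x))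
    (hkill : ∀ π ∈ maximalIdeal (X.presheaf.stalk x), ∀ m',
      π • m' ∈ LinearMap.range (RefHull.stalkMapₗ a x)) :
    ∃ (g' : Module.Basis (Fin r) X.functionField (Gn F')) (k : ℕ), IsLatBasis F' x g' ∧ k ≤ min n r ∧
      Scheme.ord (g'.det (g.map θ)) x = k := by
  classical
  choose m hm using hg.1
  let v : Fin r → F'.presheaf.stalk x := fun i => RefHull.stalkMapₗ a x (m i)
  have hv : ∀ i, msp F' (toGen x) (v i) = (g.map θ) i := fun i => by
    rw [Module.Basis.map_apply, hθ, ← hm i]
    exact (stalkMap_msp a (toGen x) (m i)).symm ▸ rfl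
  obtain ⟨g', hg', hlen⟩ := exists_latBasis_length hF' hn hx v (g.map θ) hv
  set S := Submodule.span (X.presheaf.stalk x)
    (Set.range fun i => (Submodule.Quotient.mk (v i) : F'.presheaf.stalk x ⧸ latKer F' x)) with hS
  have hrange : ∀ z ∈ LinearMap.range (RefHull.stalkMapₗ a x),
      (Submodule.Quotient.mk z : F'.presheaf.stalk x ⧸ latKer F' x) ∈ S := by
    rintro _ ⟨m₀, rfl⟩
    choose c hc using fun i => hg.2 m₀ i
    have : (Submodule.Quotient.mk (RefHull.stalkMapₗ a x m₀) : F'.presheaf.stalk x ⧸ latKer F' x) =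
        ∑ i, c i • Submodule.Quotient.mk (v i) := by
      refine latMap_injective x ?_
      rw [map_sum, latMap_mk, ← stalkMap_msp]
      simp only [latMap_smul, latMap_mk, hc, hv, Module.Basis.map_apply]
      rw [← hθ]
      conv_lhs => rw [← g.sum_repr (msp F (toGen x) m₀), map_sum]
      exact Finset.sum_congr rfl fun i _ => map_smul θ _ _
    rw [this]
    exact Submodule.sum_mem _ fun i _ => S.smul_mem _ (Submodule.subset_span ⟨i, rfl⟩)
  let proj : F'.presheaf.stalk x →ₗ[X.presheaf.stalk x] (F'.presheaf.stalk x ⧸ latKer F' x) ⧸ S :=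
    S.mkQ.comp (latKer F' x).mkQ
  have hproj : Function.Surjective proj := (Submodule.mkQ_surjective S).comp (Submodule.mkQ_surjective _)
  have hp0 : ∀ z ∈ LinearMap.range (RefHull.stalkMapₗ a x), proj z = 0 := fun z hz =>
    (Submodule.Quotient.mk_eq_zero S).2 (hrange z hz)
  have hk : ∀ π ∈ maximalIdeal (X.presheaf.stalk x), ∀ q, π • (q : (F'.presheaf.stalk x ⧸ latKer F' x) ⧸ S) = 0 :=
    fun π hπ q => by
      obtain ⟨z, rfl⟩ := hproj q
      rw [← map_smul]
      exact hp0 _ (hkill π hπ z)
  have h1 : Module.length (X.presheaf.stalk x) ((F'.presheaf.stalk x ⧸ latKer F' x) ⧸ S) ≤ n := by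
    refine length_le_of_gen (fun i => proj (t i)) (eq_top_iff.2 fun q _ => ?_) hk
    obtain ⟨z, rfl⟩ := hproj q
    obtain ⟨c, hc⟩ := hgen z
    have := hp0 _ hc
    rw [map_sub, sub_eq_zero, map_sum] at this
    rw [this]
    exact Submodule.sum_mem _ fun i _ => by
      rw [map_smul]; exact Submodule.smul_mem _ _ (Submodule.subset_span ⟨i, rfl⟩)
  have h2 : Module.length (X.presheaf.stalk x) ((F'.presheaf.stalk x ⧸ latKer F' x) ⧸ S) ≤ r := by
    choose m' hm' using hg'.1
    refine length_le_of_gen (fun i => proj (m' i)) (eq_top_iff.2 fun q _ => ?_) hk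
    obtain ⟨z, rfl⟩ := hproj q
    choose c hc using fun i => hg'.2 z i
    have : (Submodule.Quotient.mk z : F'.presheaf.stalk x ⧸ latKer F' x) = ∑ i, c i • Submodule.Quotient.mk (m' i) := by
      refine latMap_injective x ?_
      rw [map_sum]
      simp only [latMap_smul, latMap_mk, hc, hm']
      exact (g'.sum_repr _).symm
    have h' := congrArg S.mkQ this
    rw [map_sum] at h'
    rw [show proj z = _ from h']
    exact Submodule.sum_mem _ fun i _ => by
      rw [map_smul]; exact Submodule.smul_mem _ _ (Submodule.subset_span ⟨i, rfl⟩)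
  have hle := le_min h1 h2
  obtain ⟨k, hk'⟩ := ENat.ne_top_iff_exists.1
    (ne_top_of_le_ne_top (ENat.natCast_ne_top n) h1 : Module.length (X.presheaf.stalk x) _ ≠ ⊤)
  rw [← hk'] at hle h1 h2
  rw [← hk', ENat.toNat_natCast] at hlen
  exact ⟨g', k, hg', le_min (by exact_mod_cast h1) (by exact_mod_cast h2), hlen.symm⟩

end Groth.Agent.DetTwist
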