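import Groth.Agent.DetTwist.Divisor
import Groth.Agent.RefStalk.Restrict
import Groth.Agent.ConsFlat.Scheme
import Groth.Agent.RefK0.InvTwist
import Groth.Agent.QuotCurve.Main
import Groth.Agent.S16491

/-!
# Determinants of elementary modifications along an integral effective Cartier divisor
-/

set_option autoImplicit false
set_option linter.unusedSectionVars false
set_option linter.style.haveILetI false
set_option backward.isDefEq.respectTransparency false
set_option backward.isDefEq.respectTransparency.types false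

universe u

open CategoryTheory CategoryTheory.Limits AlgebraicGeometry TopologicalSpace Opposite
open Groth.Agent.RefStalk (msp toGen stalkMap_msp)
open Groth.Agent.RefK0 (Gn)

noncomputable section

namespace Groth.Agent.DetTwist

variable {X : Scheme.{u}} [IsIntegral X] [IsLocallyNoetherian X]

theorem finrank_generic {F : X.Modules} (hF : Coh.IsCoh F) {U : X.Opens} (hU : (U : Set X).Nonempty) {r : ℕ}
    (h : FlatMod.IsFinLocFreeOfRank r (F.restrict U.ι)) :
    Module.finrank (X.presheaf.stalk (genericPoint X)) (F.presheaf.stalk (genericPoint X)) = r := by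
  have hη : genericPoint X ∈ U := ((genericPoint_spec X).mem_open_set_iff U.2).2 (by simpa using hU)
  obtain ⟨σ, e, he⟩ := RefStalk.exists_stalk_restrict F U ⟨_, hη⟩
  rw [← ((ConsFlat.isFinLocFreeOfRank_iff (QC.isQCoh_restrict U.ι hF.1) r).1 h).2 ⟨_, hη⟩]
  exact congrArg Cardinal.toNat (rank_eq_of_equiv_equiv σ e σ.bijective he).symm

theorem isInvertible_ddual (hreg : ∀ x : X, IsRegularLocalRing (X.presheaf.stalk x)) {W : X.Modules}
    (hlat : RefDiv.Lat (RefHull.ddual W)) (hW : Coh.IsCoh W) : PicF.IsInvertible (RefHull.ddual W) := by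
  obtain ⟨h1, h2, h3⟩ := hlat.isRef1 fun x => RefStalk.isReflexiveAt_ddual hW x
  exact Groth.Agent.S16491.result X hreg _ h1 h2 h3

theorem hasDiv_tensorInv (hn : Pi1.IsNormalScheme X) {A B : X.Modules} (hA : PicF.IsInvertible A)
    (hB : PicF.IsInvertible B) {D E : X → ℤ} (hD : RefDiv.HasDiv A D) (hE : RefDiv.HasDiv B E) :
    RefDiv.HasDiv (CohB1.tensorMod A B) (fun x => D x + E x) := by
  have hA' := RefDiv.isRef1_of_isInvertible hA
  have hB' := RefDiv.isRef1_of_isInvertible hB
  obtain ⟨e⟩ := RefK0.nonempty_refTensor_inv hA' hB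
  refine RefDiv.hasDiv_iso hn ?_ (RefDiv.lat_of_isInvertible (TMul.isInvertible_tensorMod hA hB)) e
    (RefK0.hasDiv_refTensor hn hA' hB' hD hE)
  exact RefDiv.lat_tensor (RefDiv.lat_of_isRef1 hA') (RefDiv.lat_of_isRef1 hB')

theorem hasDiv_tensorPow (hn : Pi1.IsNormalScheme X) {A : X.Modules} (hA : PicF.IsInvertible A)
    {D : X → ℤ} (hD : RefDiv.HasDiv A D) : ∀ m : ℕ,
    PicF.IsInvertible (CohB1.tensorPow A m) ∧ RefDiv.HasDiv (CohB1.tensorPow A m) (fun x => (m : ℤ) * D x)
  | 0 => ⟨TMul.isInvertible_structureModule, by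
      obtain ⟨s, hs, h⟩ := RefDiv.hasDiv_structureModule hn
      exact ⟨s, hs, fun x hx => (h x hx).trans (by simp)⟩⟩
  | m + 1 => by
    obtain ⟨h1, h2⟩ := hasDiv_tensorPow hn hA hD m
    refine ⟨TMul.isInvertible_tensorMod h1 hA, ?_⟩
    obtain ⟨s, hs, h⟩ := hasDiv_tensorInv hn h1 hA h2 hD
    exact ⟨s, hs, fun x hx => (h x hx).trans (by push_cast; ring)⟩

theorem main (hreg : ∀ x : X, IsRegularLocalRing (X.presheaf.stalk x))
    (𝓓 : X.IdealSheafData) (hD : BlowUp.IsEffCartierIdeal 𝓓) [IsIntegral 𝓓.subscheme] (s : ℕ)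
    (G : (𝓓.subscheme).Modules) (hGc : Coh.IsQCoh G) (hG : FlatMod.IsFinLocFreeOfRank s G) (F F' : X.Modules)
    (hF : Coh.IsCoh F) (hF' : Coh.IsCoh F') (a : F ⟶ F')
    (b : F' ⟶ (Scheme.Modules.pushforward 𝓓.subschemeι).obj G) (w : a ≫ b = 0)
    (hex : (ShortComplex.mk a b w).Exact) (hb : Epi b) (r : ℕ)
    (hrk : Module.finrank (X.presheaf.stalk (genericPoint X)) (F.presheaf.stalk (genericPoint X)) = r)
    (hrk' : Module.finrank (X.presheaf.stalk (genericPoint X)) (F'.presheaf.stalk (genericPoint X)) = r)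
    (L L' : X.Modules) (hL : ExtPow.IsExtPow r F L) (hL' : ExtPow.IsExtPow r F' L') :
    PicF.IsInvertible (RefHull.ddual L) ∧ PicF.IsInvertible (RefHull.ddual L') ∧
      ∃ k : ℕ, k ≤ min s r ∧
        Nonempty (RefHull.ddual L' ≅
          CohB1.tensorMod (RefHull.ddual L) (CohB1.tensorPow (RefHull.dual (ClSub.idealMod 𝓓)) k)) := by
  classical
  have hn : Pi1.IsNormalScheme X := QuotCurve.isNormalScheme_of_regular hreg
  have hLc : Coh.IsCoh L := PnHodge.ExtCoh.isCoh_of_isExtPow hF hL
  have hLc' : Coh.IsCoh L' := PnHodge.ExtCoh.isCoh_of_isExtPow hF' hL'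
  obtain ⟨hlat, g₀, hg₀⟩ := exists_hasDiv hn hF hrk hL
  obtain ⟨hlat', g₁, hg₁⟩ := exists_hasDiv hn hF' hrk' hL'
  have hi := isInvertible_ddual hreg hlat hLc
  have hi' := isInvertible_ddual hreg hlat' hLc'
  refine ⟨hi, hi', ?_⟩
  let P := (Scheme.Modules.pushforward 𝓓.subschemeι).obj G
  have hsub : ∀ x, x ∉ 𝓓.support → Subsingleton (P.presheaf.stalk x) := fun x hx =>
    KFlat.subsingleton_stalk_push 𝓓.subschemeι G (by rw [Scheme.IdealSheafData.range_subschemeι]; exact hx)
  haveI := hsub _ (not_mem_of_generic hD)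
  have hsurj : Function.Surjective (RefHull.stalkMapₗ a (genericPoint X)) := by
    rw [← LinearMap.range_eq_top, ← (range_of_exact hex hb _).2, eq_top_iff]
    exact fun m _ => Subsingleton.elim (α := P.presheaf.stalk (genericPoint X)) _ _
  haveI : Module.Finite X.functionField (Gn F) := RegDual.finite_stalk hF _
  haveI : Module.Finite X.functionField (Gn F') := RegDual.finite_stalk hF' _
  let aη : Gn F →ₗ[X.functionField] Gn F' :=
    { toFun := RefHull.stalkMapₗ a (genericPoint X)
      map_add' := map_add _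
      map_smul' := fun c m => map_smul (RefHull.stalkMapₗ a (genericPoint X)) c m }
  have hinj : Function.Injective aη :=
    (LinearMap.injective_iff_surjective_of_finrank_eq_finrank (hrk.trans hrk'.symm)).2 hsurj
  let θ : Gn F ≃ₗ[X.functionField] Gn F' := LinearEquiv.ofBijective aη ⟨hinj, hsurj⟩
  let ξ : X := 𝓓.subschemeι (genericPoint 𝓓.subscheme)
  obtain ⟨U, hηU, ⟨iU⟩⟩ := hG (genericPoint 𝓓.subscheme)
  obtain ⟨bG⟩ := LocFree.exists_basis_stalk iU hGc hηU
  obtain ⟨t, ht⟩ := push_gens 𝓓.subschemeι (genericPoint 𝓓.subscheme) G (bG.reindex Equiv.ulift)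
  choose t' ht' using fun i => (range_of_exact hex hb ξ).1 (t i)
  have step : ∀ x : X, Order.coheight x = 1 → ∃ (g : Module.Basis (Fin r) X.functionField (Gn F))
      (g' : Module.Basis (Fin r) X.functionField (Gn F')) (k : ℕ), IsLatBasis F x g ∧ IsLatBasis F' x g' ∧
      k ≤ min s r ∧ (x ≠ ξ → k = 0) ∧ Scheme.ord (g'.det (g.map θ)) x = k := by
    intro x hx
    obtain ⟨g, hg⟩ := exists_latBasis hF hn hx hrk
    have hr := (range_of_exact hex hb x).2
    by_cases hxξ : x = ξ
    · subst hxξ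
      obtain ⟨g', k, hg', hk, hord⟩ := exists_step hn hx hF' a θ (fun _ => rfl) g hg t'
        (fun m' => by
          obtain ⟨c, hc⟩ := ht (RefHull.stalkMapₗ b ξ m')
          refine ⟨c, hr ▸ ?_⟩
          rw [LinearMap.mem_ker, map_sub, map_sum, hc, sub_eq_zero]
          exact Finset.sum_congr rfl fun i _ => by rw [map_smul, ht'])
        (fun π hπ m' => hr ▸ (by
          rw [LinearMap.mem_ker, map_smul]
          exact push_kill 𝓓.subschemeι _ (Field.toIsField 𝓓.subscheme.functionField) G hπ _))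
      exact ⟨g, g', k, hg, hg', hk, fun h => (h rfl).elim, hord⟩
    · haveI := hsub x fun h => hxξ (eq_genericPoint_of_coheight hD hx h)
      have hall : ∀ m', m' ∈ LinearMap.range (RefHull.stalkMapₗ a x) := fun m' =>
        hr ▸ (Subsingleton.elim (α := P.presheaf.stalk x) _ _ : RefHull.stalkMapₗ b x m' = 0)
      obtain ⟨g', k, hg', hk, hord⟩ := exists_step hn hx hF' a θ (fun _ => rfl) g hg (n := 0) Fin.elim0
        (fun m' => ⟨Fin.elim0, hall _⟩) (fun π _ m' => hall _)
      have hk0 : k = 0 := by omega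
      exact ⟨g, g', k, hg, hg', by omega, fun _ => hk0, hord⟩
  choose g g' k hg hg' hk hk0 hord using step
  let k₀ : ℕ := if h : Order.coheight ξ = 1 then k ξ h else 0
  refine ⟨k₀, by simp only [k₀]; split <;> [exact hk _ _; exact Nat.zero_le _], ?_⟩
  let c : ℤ → X → ℤ := fun n x => if x = ξ then n else 0
  let D : X → ℤ := fun x => if h : Order.coheight x = 1 then - Scheme.ord (g₀.det (g x h)) x else 0
  let D' : X → ℤ := fun x => if h : Order.coheight x = 1 then - Scheme.ord (g₁.det (g' x h)) x else 0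
  have hdiv : RefDiv.HasDiv (RefHull.ddual L) D := hg₀ D fun x hx => ⟨g x hx, hg x hx, by simp only [D, dif_pos hx]⟩
  have hdiv' : RefDiv.HasDiv (RefHull.ddual L') D' :=
    hg₁ D' fun x hx => ⟨g' x hx, hg' x hx, by simp only [D', dif_pos hx]⟩
  have hI := hasDiv_idealMod hn hD
  have hIi := (Groth.Agent.S8914.result 𝓓).2 hD
  have hIl := RefDiv.lat_of_isInvertible hIi
  have hdual := RefDiv.hasDiv_dual hn hIl hI
  have hdi : PicF.IsInvertible (RefHull.dual (ClSub.idealMod 𝓓)) := by
    obtain ⟨h1, h2, h3⟩ := RefDiv.isRef1_dual hIl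
    exact Groth.Agent.S16491.result X hreg _ h1 h2 h3
  obtain ⟨hpi, hpow⟩ := hasDiv_tensorPow hn hdi hdual k₀
  have hT := hasDiv_tensorInv hn hi hpi hdiv hpow
  -- the two generic frames differ by a constant, absorbed by rescaling the section
  let g₀' := g₀.map θ
  have hκ : (g₁.det g₀' : X.functionField) ≠ 0 := (g₁.isUnit_det g₀').ne_zero
  obtain ⟨s', hs', hsD'⟩ := hdiv'
  refine RefDiv.nonempty_iso hn (RefDiv.isRef1_of_isInvertible hi')
    (RefDiv.isRef1_of_isInvertible (TMul.isInvertible_tensorMod hi hpi)) ?_ hT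
  refine ⟨(g₁.det g₀' : X.functionField) • s', RefDiv.smul_ne_zero' hs' hκ, fun x hx => ?_⟩
  rw [RefDiv.dv_smul hn hlat' hs' hκ hx, hsD' x hx]
  simp only [D, D', dif_pos hx]
  have e1 : g₁.det (g x hx |>.map θ) = (g' x hx).det ((g x hx).map θ) * g₁.det (g' x hx) := det_trans _ _ _
  have e2 : g₁.det (g x hx |>.map θ) = g₀'.det ((g x hx).map θ) * g₁.det g₀' := det_trans _ _ _
  have e3 : g₀'.det ((g x hx).map θ) = g₀.det (g x hx) := by
    rw [Module.Basis.det_map]
    congr 1
    funext i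
    simp
  rw [e3] at e2
  have n1 : (g₀.det (g x hx) : X.functionField) ≠ 0 := (g₀.isUnit_det _).ne_zero
  have n2 : ((g' x hx).det ((g x hx).map θ) : X.functionField) ≠ 0 := ((g' x hx).isUnit_det _).ne_zero
  have n3 : (g₁.det (g' x hx) : X.functionField) ≠ 0 := (g₁.isUnit_det _).ne_zero
  have h := congrArg (fun z : X.functionField => Scheme.ord z x) (e1.symm.trans e2)
  simp only [Scheme.ord_mul n2 n3, Scheme.ord_mul n1 hκ, hord x hx] at h
  have hkc : (k x hx : ℤ) = (k₀ : ℤ) * -(if x = ξ then -1 else 0) := by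
    split
    · next e => subst e; simp [k₀, dif_pos hx]
    · next e => simp [hk0 x hx e]
  rw [← hkc]
  omega

end Groth.Agent.DetTwist
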