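import Groth.Agent.RefK0.DetExt

/-!
# The reflexive hull of the top exterior power as the determinant of the lattices at codimension one points
-/

set_option autoImplicit false
set_option linter.unusedSectionVars false
set_option linter.style.haveILetI false
set_option backward.isDefEq.respectTransparency false
set_option backward.isDefEq.respectTransparency.types false

universe u

open CategoryTheory CategoryTheory.Limits AlgebraicGeometry TopologicalSpace Opposite
open Groth.Agent.RefStalk (msp msp_germ msp_smul toGen stalkMap_msp)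
open Groth.Agent.WeakAssLib (mgerm mgerm_smul mgerm_res)
open Groth.Agent.QC (res resO)
open Groth.Agent.RefDiv (sp sp_ne_zero)
open Groth.Agent.RefK0 (Gn)

noncomputable section

namespace Groth.Agent.DetTwist

variable {X : Scheme.{u}} [IsIntegral X] [IsLocallyNoetherian X] {F W : X.Modules} {r : ℕ}
  (φ : ∀ U : X.affineOpens, Γ(W, U.1) ≃ₗ[Γ(X, U.1)] ↥(⋀[Γ(X, U.1)]^r Γ(F, U.1)))
  (hφ : ∀ (U V : X.affineOpens) (h : V.1 ≤ U.1) (e : Fin r → Γ(F, U.1)),
    res W h ((φ U).symm (exteriorPower.ιMulti _ r e)) = (φ V).symm (exteriorPower.ιMulti _ r fun j => res F h (e j)))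

include hφ in
/-- A wedge of sections, seen at the generic point. -/
theorem germ_wedge (hF : Coh.IsQCoh F) (A B : X.affineOpens) (hA : genericPoint X ∈ A.1) (hB : genericPoint X ∈ B.1)
    (e : Fin r → Γ(F, A.1)) (f₀ : Module.Basis (Fin r) Γ(X, B.1) Γ(F, B.1))
    (g₀ : Module.Basis (Fin r) X.functionField (Gn F)) (hg₀ : ∀ i, g₀ i = mgerm F hB (f₀ i)) :
    (mgerm W hA ((φ A).symm (exteriorPower.ιMulti _ r e)) : Gn W) =
      (g₀.det (fun j => (mgerm F hA (e j) : Gn F)) : X.functionField) • (mgerm W hB (RefK0.detGen φ B f₀) : Gn W) := by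
  classical
  obtain ⟨d, hd, hηd⟩ := B.2.exists_basicOpen_le (V := A.1) ⟨genericPoint X, hA⟩ hB
  obtain ⟨b, hb⟩ := GenSection.exists_basis_basicOpen hF B.2 f₀ d
  let D : X.affineOpens := ⟨X.basicOpen d, B.2.basicOpen d⟩
  have hfb : ∀ l, res F (X.basicOpen_le d) (f₀ l) = b l := fun l => by
    refine b.repr.injective (Finsupp.ext fun m => ?_)
    rw [hb, f₀.repr_self, b.repr_self, Finsupp.single_apply, Finsupp.single_apply]
    split <;> simp
  let e' : Fin r → Γ(F, D.1) := fun j => res F hd (e j)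
  have key : res W hd ((φ A).symm (exteriorPower.ιMulti _ r e)) =
      b.det e' • res W (X.basicOpen_le d) (RefK0.detGen φ B f₀) := by
    rw [hφ A D hd, hφ B D (X.basicOpen_le d), show (fun j => res F (X.basicOpen_le d) (f₀ j)) = ⇑b from funext hfb,
      RefK0.alt_eq_smul (exteriorPower.ιMulti Γ(X, D.1) r) b, map_smul]
  have hrepr : ∀ i j, g₀.repr (mgerm F hA (e j) : Gn F) i =
      X.presheaf.germ D.1 (genericPoint X) hηd (b.repr (e' j) i) := fun i j => by
    have hs : (mgerm F hA (e j) : Gn F) =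
        ∑ l, (X.presheaf.germ D.1 (genericPoint X) hηd (b.repr (e' j) l) : X.functionField) • g₀ l := by
      have h := congrArg (mgerm F hηd) (b.sum_repr (e' j))
      rw [map_sum, show mgerm F hηd (e' j) = mgerm F hA (e j) from mgerm_res F hd hηd (e j)] at h
      refine h.symm.trans (Finset.sum_congr rfl fun l _ => ?_)
      rw [mgerm_smul, ← hfb, mgerm_res, hg₀]
    rw [hs, g₀.repr_sum_self]
  have hdet : g₀.det (fun j => (mgerm F hA (e j) : Gn F)) =
      X.presheaf.germ D.1 (genericPoint X) hηd (b.det e') := by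
    rw [Module.Basis.det_apply, Module.Basis.det_apply, RingHom.map_det]
    exact congrArg Matrix.det (Matrix.ext fun i j => hrepr i j)
  have h := congrArg (mgerm W hηd) key
  rw [mgerm_res, mgerm_smul, mgerm_res] at h
  rw [h, hdet]

omit φ

/-- `g` is a generic basis of the lattice of `F` at `x`. -/
def IsLatBasis (F : X.Modules) {r : ℕ} (x : X) (g : Module.Basis (Fin r) X.functionField (Gn F)) : Prop :=
  (∀ i, ∃ m : F.presheaf.stalk x, msp F (toGen x) m = g i) ∧
    ∀ (m : F.presheaf.stalk x) (i : Fin r), g.repr (msp F (toGen x) m) i ∈ Set.range (sp x)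

theorem det_mem_range {x : X} {g : Module.Basis (Fin r) X.functionField (Gn F)} (hg : IsLatBasis F x g)
    (m : Fin r → F.presheaf.stalk x) :
    (g.det fun j => msp F (toGen x) (m j)) ∈ Set.range (sp x) := by
  classical
  choose M hM using fun i j => hg.2 (m j) i
  refine ⟨(Matrix.of M).det, ?_⟩
  rw [Module.Basis.det_apply, RingHom.map_det]
  exact congrArg Matrix.det (Matrix.ext fun i j => hM i j)

theorem det_trans (g₀ g : Module.Basis (Fin r) X.functionField (Gn F)) (v : Fin r → Gn F) :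
    g₀.det v = g.det v * g₀.det g :=
  RefK0.alt_eq_smul g₀.det g v

/-- The section of the hull of the top power given by a generic frame has the orders of the determinants. -/
theorem exists_hasDiv (hn : Pi1.IsNormalScheme X) (hF : Coh.IsCoh F)
    (hrk : Module.finrank (X.presheaf.stalk (genericPoint X)) (F.presheaf.stalk (genericPoint X)) = r)
    (hW : ExtPow.IsExtPow r F W) :
    RefDiv.Lat (RefHull.ddual W) ∧ ∃ g₀ : Module.Basis (Fin r) X.functionField (Gn F),
      ∀ D : X → ℤ, (∀ x : X, Order.coheight x = 1 → ∃ g : Module.Basis (Fin r) X.functionField (Gn F),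
          IsLatBasis F x g ∧ D x = - Scheme.ord (g₀.det g) x) →
        RefDiv.HasDiv (RefHull.ddual W) D := by
  classical
  have hWc : Coh.IsCoh W := PnHodge.ExtCoh.isCoh_of_isExtPow hF hW
  have hdd : Coh.IsCoh (RefHull.ddual W) :=
    RefStalk.isCoh_homSh (RefStalk.isCoh_homSh hWc RefStalk.isCoh_structureModule) RefStalk.isCoh_structureModule
  obtain ⟨φ, hφ⟩ := hW
  let η := genericPoint X
  have hηfree : Module.Free (X.presheaf.stalk η) (F.presheaf.stalk η) := by
    letI : Field (X.presheaf.stalk η) := inferInstanceAs (Field X.functionField)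
    exact Module.Free.of_divisionRing _ _
  obtain ⟨A₀, hA₀, -, hη₀, ⟨f₀⟩⟩ := RefK0.exists_secBasis hF hrk hηfree
  obtain ⟨g₀, hg₀⟩ := RefK0.exists_genBasis hF.1 hA₀ f₀ hη₀
  obtain ⟨w₀, hw₀⟩ := RefK0.exists_detBasis φ ⟨A₀, hA₀⟩ f₀
  obtain ⟨u₀, hu₀⟩ := RefK0.exists_genBasis hWc.1 hA₀ w₀ hη₀
  let β := RefHull.stalkMapₗ (RefHull.bidualMap W) (genericPoint X)
  have hβ : Function.Bijective β := RefDiv.bijective_bidual_generic hWc
  have hu : ∀ v : Gn W, ∃ c : X.functionField, c • u₀ 0 = v := fun v => ⟨u₀.repr v 0, by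
    conv_rhs => rw [← u₀.sum_repr v]
    rw [Fin.sum_univ_one]⟩
  have hu0 : β (u₀ 0) ≠ 0 := fun h => u₀.ne_zero 0 (hβ.1 (h.trans (map_zero β).symm))
  have hlat : RefDiv.Lat (RefHull.ddual W) := by
    refine ⟨hdd, fun x => ?_, β (u₀ 0), hu0, fun v => ?_⟩
    · haveI := RefStalk.isReflexiveAt_ddual hWc x
      exact RefStalk.isTorsionFree_of_isReflexive _
    · obtain ⟨v, rfl⟩ := hβ.2 v
      obtain ⟨c, rfl⟩ := hu v
      exact ⟨c, (map_smul β c _).symm⟩
  refine ⟨hlat, g₀, fun D hD => ⟨β (u₀ 0), hu0, fun x hx => ?_⟩⟩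
  obtain ⟨g, hg, hDx⟩ := hD x hx
  have hwedge : ∀ (A : X.affineOpens) (hxA : x ∈ A.1) (e : Fin r → Γ(F, A.1)),
      msp W (toGen x) (mgerm W hxA ((φ A).symm (exteriorPower.ιMulti _ r e))) =
        (g₀.det fun j => msp F (toGen x) (mgerm F hxA (e j))) • u₀ 0 := fun A hxA e => by
    rw [msp_germ, hu₀, hw₀]
    refine (germ_wedge φ hφ hF.1 A ⟨A₀, hA₀⟩ _ hη₀ e f₀ g₀ hg₀).trans ?_
    congr 2
    funext j
    exact (msp_germ F (toGen x) hxA (e j)).symm
  have hmem : ∀ w : W.presheaf.stalk x, ∃ a : X.presheaf.stalk x,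
      msp W (toGen x) w = (sp x a * g₀.det g) • u₀ 0 := fun w => by
    obtain ⟨U, hU, s, rfl⟩ := TopCat.Presheaf.exists_germ_eq W.presheaf w
    obtain ⟨A, hA, hxA, hAU⟩ := exists_isAffineOpen_mem_and_subset (x := x) (U := U) hU
    rw [show W.presheaf.germ U x hU s = mgerm W hxA (res W hAU s) from (mgerm_res W hAU hxA s).symm]
    generalize res W hAU s = t
    obtain ⟨v, rfl⟩ := (φ ⟨A, hA⟩).symm.surjective t
    have hv : v ∈ Submodule.span Γ(X, A) (Set.range (exteriorPower.ιMulti Γ(X, A) r (M := Γ(F, A)))) := by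
      rw [exteriorPower.ιMulti_span]
      exact Submodule.mem_top
    induction hv using Submodule.span_induction with
    | mem z hz =>
      obtain ⟨e, rfl⟩ := hz
      obtain ⟨a, ha⟩ := det_mem_range hg fun j => mgerm F hxA (e j)
      exact ⟨a, (hwedge ⟨A, hA⟩ hxA e).trans (by rw [det_trans g₀ g, ha])⟩
    | zero => exact ⟨0, by rw [map_zero, map_zero, map_zero, map_zero, zero_mul]; exact (zero_smul _ _).symm⟩
    | add z z' _ _ h h' =>
      obtain ⟨a, ha⟩ := h
      obtain ⟨a', ha'⟩ := h'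
      refine ⟨a + a', ?_⟩
      rw [map_add, map_add, map_add, ha, ha', map_add, add_mul]
      exact (add_smul _ _ _).symm
    | smul c z _ h =>
      obtain ⟨a, ha⟩ := h
      refine ⟨(X.presheaf.germ A x hxA).hom c * a, ?_⟩
      rw [map_smul, mgerm_smul, msp_smul, ha, map_mul, mul_assoc]
      exact (mul_smul _ _ _).symm
  obtain ⟨w, hw⟩ : ∃ w : W.presheaf.stalk x, msp W (toGen x) w = (g₀.det g : X.functionField) • u₀ 0 := by
    choose m hm using hg.1
    choose U hU s hs using fun i => TopCat.Presheaf.exists_germ_eq F.presheaf (m i)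
    let O : X.Opens := ⟨⋂ i, (U i : Set X), isOpen_iInter_of_finite fun i => (U i).2⟩
    obtain ⟨A, hA, hxA, hAO⟩ := exists_isAffineOpen_mem_and_subset (x := x) (U := O)
      (show x ∈ O from Set.mem_iInter.2 hU)
    have hle : ∀ i, A ≤ U i := fun i y hy => Set.mem_iInter.1 (hAO hy) i
    refine ⟨mgerm W hxA ((φ ⟨A, hA⟩).symm (exteriorPower.ιMulti _ r fun i => res F (hle i) (s i))), ?_⟩
    refine (hwedge ⟨A, hA⟩ hxA _).trans ?_
    congr 2
    funext j
    rw [mgerm_res]
    exact (congrArg (msp F (toGen x)) (hs j)).trans (hm j)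
  have hd : (g₀.det g : X.functionField) ≠ 0 := (g₀.isUnit_det g).ne_zero
  haveI := (hn x).1
  haveI := CDivNormal.isDVR hn x hx
  have hsp : Submodule.span (X.presheaf.stalk x) {RefHull.stalkMapₗ (RefHull.bidualMap W) x w} = ⊤ :=
    RefDiv.span_eq_top_of_surjective fun v => by
      obtain ⟨v, rfl⟩ := RefStalk.surjective_stalkMap_bidualMap hWc x v
      obtain ⟨a, ha⟩ := hmem v
      refine ⟨a, hlat.injective_msp x ?_⟩
      beta_reduce
      rw [← map_smul, ← stalkMap_msp, ← stalkMap_msp, msp_smul, hw, ha]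
      exact congrArg β (mul_smul _ _ _).symm
  rw [RefDiv.dv, hlat.secOrdAt_mk hx hsp (inv_ne_zero hd) ?_, RefDiv.ord_inv hd, hDx]
  rw [← stalkMap_msp, hw, map_smul, smul_smul, inv_mul_cancel₀ hd, one_smul]

end Groth.Agent.DetTwist
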